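import Cfsg.Agent.CoThreeRecog.CertL.Tables

/-!
Generated coset enumeration certificate: steps.
-/

set_option autoImplicit false
set_option maxRecDepth 20000
set_option linter.style.longLine false

namespace Cfsg.Lib.CoThreeRecog.CertL

open Cfsg.Lib.CosetCert
open Cfsg.Lib.McLRecog (Piece fin_length)

/-- Steps. -/
def js224 : List (ℕ × ℕ) := [
  (4, 1468811792165), (5, 1615427882799), (3, 1549409538127), (5, 1179690004267), (4, 1508372467965),
  (3, 1449182450021), (4, 1036731344838), (3, 1549510201879), (6, 1455222248141), (3, 1006029040182),
  (5, 1011095759718), (3, 1024366537722), (5, 1272082133377), (3, 1247184757339), (6, 1247922941012),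
  (4, 1472284677461), (4, 1469281555979), (3, 1520653391581), (6, 1520837940965), (5, 1613750163191),
  (6, 1520653391583), (6, 1573921052425), (5, 1232487915242), (4, 1502701770863), (3, 1193984200201),
  (4, 1291761821965), (3, 1214603401927), (6, 1087482427135), (4, 1506292095905), (5, 1609723632861),
  (6, 1500805946723), (4, 1445155917932), (3, 1117949852322), (4, 1131119968989), (5, 1553889059109),
  (6, 1553738064177), (3, 1096407908162), (4, 1567998698509), (4, 1231464505014), (6, 1110098117228),
  (4, 1537497720272), (3, 1562495772201), (6, 1231900705716), (5, 1540014302859), (5, 1205510150313),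
  (5, 1124291642818), (4, 1544728700831), (3, 1644972566763), (4, 1586839514011), (3, 1326490651704),
  (3, 1291644374619), (3, 1290788740451), (4, 1694834453875), (4, 1605663550921), (5, 1169573351500),
  (4, 1586604633885), (3, 1511090371735), (3, 1639268315065), (4, 1175025947026), (6, 1235860133258),
  (3, 1194118419964), (3, 1216700554018), (5, 1613850834701), (5, 1291510160322), (3, 1290369309949),
  (4, 1291644378374), (3, 1293171105105), (6, 1232907345217), (3, 1231464505012), (3, 1235507814310),
  (6, 1639385758599), (5, 1259314685234), (5, 1271914375160), (5, 1274313517232), (3, 1276712659260),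
  (4, 1298204273396), (3, 1658830553647), (5, 1318051721316), (4, 1318051721948), (3, 1329762219416),
  (3, 1361806703392), (6, 1407843387037), (5, 1364709162428), (6, 1586839514013), (4, 1406249550602),
  (4, 1735586320035), (6, 1721023696549), (5, 1720889478839), (6, 1724278476627), (3, 1445155917930),
  (3, 1452839883326), (4, 1720889478841), (4, 1553738064277), (6, 1609723638168), (5, 1639268318632),
  (3, 1694834461336)]

theorem ok224 : Piece cert spec.length 56000 96 js224 := by
  unfold Piece
  decide +kernel

/-- Steps of this file. -/
def part28 : List (ℕ × ℕ) := js224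

theorem part28_ok : Piece cert spec.length 56000 96 part28 :=
  ok224

end Cfsg.Lib.CoThreeRecog.CertL
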