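import Cfsg.Agent.CoThreeRecog.CertL.Steps0
import Cfsg.Agent.CoThreeRecog.CertL.Steps1
import Cfsg.Agent.CoThreeRecog.CertL.Steps2
import Cfsg.Agent.CoThreeRecog.CertL.Steps3
import Cfsg.Agent.CoThreeRecog.CertL.Steps4
import Cfsg.Agent.CoThreeRecog.CertL.Steps5
import Cfsg.Agent.CoThreeRecog.CertL.Steps6
import Cfsg.Agent.CoThreeRecog.CertL.Steps7
import Cfsg.Agent.CoThreeRecog.CertL.Steps8
import Cfsg.Agent.CoThreeRecog.CertL.Steps9
import Cfsg.Agent.CoThreeRecog.CertL.Steps10
import Cfsg.Agent.CoThreeRecog.CertL.Steps11
import Cfsg.Agent.CoThreeRecog.CertL.Steps12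
import Cfsg.Agent.CoThreeRecog.CertL.Steps13
import Cfsg.Agent.CoThreeRecog.CertL.Steps14
import Cfsg.Agent.CoThreeRecog.CertL.Steps15
import Cfsg.Agent.CoThreeRecog.CertL.Steps16
import Cfsg.Agent.CoThreeRecog.CertL.Steps17
import Cfsg.Agent.CoThreeRecog.CertL.Steps18
import Cfsg.Agent.CoThreeRecog.CertL.Steps19
import Cfsg.Agent.CoThreeRecog.CertL.Steps20
import Cfsg.Agent.CoThreeRecog.CertL.Steps21
import Cfsg.Agent.CoThreeRecog.CertL.Steps22
import Cfsg.Agent.CoThreeRecog.CertL.Steps23
import Cfsg.Agent.CoThreeRecog.CertL.Steps24
import Cfsg.Agent.CoThreeRecog.CertL.Steps25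
import Cfsg.Agent.CoThreeRecog.CertL.Steps26
import Cfsg.Agent.CoThreeRecog.CertL.Steps27
import Cfsg.Agent.CoThreeRecog.CertL.Steps28

/-!
Generated coset enumeration certificate: validity.
-/

set_option autoImplicit false
set_option maxRecDepth 20000
set_option linter.style.longLine false

namespace Cfsg.Lib.CoThreeRecog.CertL

open Cfsg.Lib.CosetCert
open Cfsg.Lib.McLRecog (Piece fin_length)

theorem steps_ok : Piece cert spec.length 0 56096 (part0 ++ part1 ++ part2 ++ part3 ++ part4 ++ part5 ++ part6 ++ part7 ++ part8 ++ part9 ++ part10 ++ part11 ++ part12 ++ part13 ++ part14 ++ part15 ++ part16 ++ part17 ++ part18 ++ part19 ++ part20 ++ part21 ++ part22 ++ part23 ++ part24 ++ part25 ++ part26 ++ part27 ++ part28) :=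
  ((((((((((((((((((((((((((((part0_ok.cat part1_ok).cat part2_ok).cat part3_ok).cat part4_ok).cat part5_ok).cat part6_ok).cat part7_ok).cat part8_ok).cat part9_ok).cat part10_ok).cat part11_ok).cat part12_ok).cat part13_ok).cat part14_ok).cat part15_ok).cat part16_ok).cat part17_ok).cat part18_ok).cat part19_ok).cat part20_ok).cat part21_ok).cat part22_ok).cat part23_ok).cat part24_ok).cat part25_ok).cat part26_ok).cat part27_ok).cat part28_ok)

theorem tab0 : cert.tabPart 56096 0 200 = true := by decide +kernel

theorem tab200 : cert.tabPart 56096 200 200 = true := by decide +kernel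

theorem tab400 : cert.tabPart 56096 400 200 = true := by decide +kernel

theorem tab600 : cert.tabPart 56096 600 200 = true := by decide +kernel

theorem tab800 : cert.tabPart 56096 800 200 = true := by decide +kernel

theorem tab1000 : cert.tabPart 56096 1000 200 = true := by decide +kernel

theorem tab1200 : cert.tabPart 56096 1200 200 = true := by decide +kernel

theorem tab1400 : cert.tabPart 56096 1400 200 = true := by decide +kernel

theorem tab1600 : cert.tabPart 56096 1600 200 = true := by decide +kernel

theorem tab1800 : cert.tabPart 56096 1800 200 = true := by decide +kernel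

theorem tab2000 : cert.tabPart 56096 2000 200 = true := by decide +kernel

theorem tab2200 : cert.tabPart 56096 2200 200 = true := by decide +kernel

theorem tab2400 : cert.tabPart 56096 2400 200 = true := by decide +kernel

theorem tab2600 : cert.tabPart 56096 2600 200 = true := by decide +kernel

theorem tab2800 : cert.tabPart 56096 2800 200 = true := by decide +kernel

theorem tab3000 : cert.tabPart 56096 3000 200 = true := by decide +kernel

theorem tab3200 : cert.tabPart 56096 3200 200 = true := by decide +kernel

theorem tab3400 : cert.tabPart 56096 3400 200 = true := by decide +kernel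

theorem tab3600 : cert.tabPart 56096 3600 200 = true := by decide +kernel

theorem tab3800 : cert.tabPart 56096 3800 200 = true := by decide +kernel

theorem tab4000 : cert.tabPart 56096 4000 200 = true := by decide +kernel

theorem tab4200 : cert.tabPart 56096 4200 200 = true := by decide +kernel

theorem tab4400 : cert.tabPart 56096 4400 200 = true := by decide +kernel

theorem tab4600 : cert.tabPart 56096 4600 200 = true := by decide +kernel

theorem tab4800 : cert.tabPart 56096 4800 200 = true := by decide +kernel

theorem tab5000 : cert.tabPart 56096 5000 200 = true := by decide +kernel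

theorem tab5200 : cert.tabPart 56096 5200 200 = true := by decide +kernel

theorem tab5400 : cert.tabPart 56096 5400 200 = true := by decide +kernel

theorem tab5600 : cert.tabPart 56096 5600 200 = true := by decide +kernel

theorem tab5800 : cert.tabPart 56096 5800 200 = true := by decide +kernel

theorem tab6000 : cert.tabPart 56096 6000 200 = true := by decide +kernel

theorem tab6200 : cert.tabPart 56096 6200 200 = true := by decide +kernel

theorem tab6400 : cert.tabPart 56096 6400 200 = true := by decide +kernel

theorem tab6600 : cert.tabPart 56096 6600 200 = true := by decide +kernel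

theorem tab6800 : cert.tabPart 56096 6800 200 = true := by decide +kernel

theorem tab7000 : cert.tabPart 56096 7000 200 = true := by decide +kernel

theorem tab7200 : cert.tabPart 56096 7200 200 = true := by decide +kernel

theorem tab7400 : cert.tabPart 56096 7400 200 = true := by decide +kernel

theorem tab7600 : cert.tabPart 56096 7600 200 = true := by decide +kernel

theorem tab7800 : cert.tabPart 56096 7800 200 = true := by decide +kernel

theorem tab8000 : cert.tabPart 56096 8000 200 = true := by decide +kernel

theorem tab8200 : cert.tabPart 56096 8200 200 = true := by decide +kernel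

theorem tab8400 : cert.tabPart 56096 8400 200 = true := by decide +kernel

theorem tab8600 : cert.tabPart 56096 8600 200 = true := by decide +kernel

theorem tab8800 : cert.tabPart 56096 8800 200 = true := by decide +kernel

theorem tab9000 : cert.tabPart 56096 9000 200 = true := by decide +kernel

theorem tab9200 : cert.tabPart 56096 9200 200 = true := by decide +kernel

theorem tab9400 : cert.tabPart 56096 9400 200 = true := by decide +kernel

theorem tab9600 : cert.tabPart 56096 9600 200 = true := by decide +kernel

theorem tab9800 : cert.tabPart 56096 9800 200 = true := by decide +kernel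

theorem tab10000 : cert.tabPart 56096 10000 200 = true := by decide +kernel

theorem tab10200 : cert.tabPart 56096 10200 200 = true := by decide +kernel

theorem tab10400 : cert.tabPart 56096 10400 200 = true := by decide +kernel

theorem tab10600 : cert.tabPart 56096 10600 200 = true := by decide +kernel

theorem tab10800 : cert.tabPart 56096 10800 200 = true := by decide +kernel

theorem tab11000 : cert.tabPart 56096 11000 200 = true := by decide +kernel

theorem tab11200 : cert.tabPart 56096 11200 200 = true := by decide +kernel

theorem tab11400 : cert.tabPart 56096 11400 200 = true := by decide +kernel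

theorem tab11600 : cert.tabPart 56096 11600 200 = true := by decide +kernel

theorem tab11800 : cert.tabPart 56096 11800 200 = true := by decide +kernel

theorem tab12000 : cert.tabPart 56096 12000 200 = true := by decide +kernel

theorem tab12200 : cert.tabPart 56096 12200 200 = true := by decide +kernel

theorem tab12400 : cert.tabPart 56096 12400 200 = true := by decide +kernel

theorem tab12600 : cert.tabPart 56096 12600 200 = true := by decide +kernel

theorem tab12800 : cert.tabPart 56096 12800 200 = true := by decide +kernel

theorem tab13000 : cert.tabPart 56096 13000 200 = true := by decide +kernel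

theorem tab13200 : cert.tabPart 56096 13200 200 = true := by decide +kernel

theorem tab13400 : cert.tabPart 56096 13400 200 = true := by decide +kernel

theorem tab13600 : cert.tabPart 56096 13600 200 = true := by decide +kernel

theorem tab13800 : cert.tabPart 56096 13800 200 = true := by decide +kernel

theorem tab14000 : cert.tabPart 56096 14000 200 = true := by decide +kernel

theorem tab14200 : cert.tabPart 56096 14200 200 = true := by decide +kernel

theorem tab14400 : cert.tabPart 56096 14400 200 = true := by decide +kernel

theorem tab14600 : cert.tabPart 56096 14600 200 = true := by decide +kernel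

theorem tab14800 : cert.tabPart 56096 14800 200 = true := by decide +kernel

theorem tab15000 : cert.tabPart 56096 15000 200 = true := by decide +kernel

theorem tab15200 : cert.tabPart 56096 15200 200 = true := by decide +kernel

theorem tab15400 : cert.tabPart 56096 15400 200 = true := by decide +kernel

theorem tab15600 : cert.tabPart 56096 15600 200 = true := by decide +kernel

theorem tab15800 : cert.tabPart 56096 15800 200 = true := by decide +kernel

theorem tab16000 : cert.tabPart 56096 16000 200 = true := by decide +kernel

theorem tab16200 : cert.tabPart 56096 16200 200 = true := by decide +kernel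

theorem tab16400 : cert.tabPart 56096 16400 200 = true := by decide +kernel

theorem tab16600 : cert.tabPart 56096 16600 200 = true := by decide +kernel

theorem tab16800 : cert.tabPart 56096 16800 200 = true := by decide +kernel

theorem tab17000 : cert.tabPart 56096 17000 200 = true := by decide +kernel

theorem tab17200 : cert.tabPart 56096 17200 200 = true := by decide +kernel

theorem tab17400 : cert.tabPart 56096 17400 200 = true := by decide +kernel

theorem tab17600 : cert.tabPart 56096 17600 200 = true := by decide +kernel

theorem tab17800 : cert.tabPart 56096 17800 200 = true := by decide +kernel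

theorem tab18000 : cert.tabPart 56096 18000 200 = true := by decide +kernel

theorem tab18200 : cert.tabPart 56096 18200 200 = true := by decide +kernel

theorem tab18400 : cert.tabPart 56096 18400 200 = true := by decide +kernel

theorem tab18600 : cert.tabPart 56096 18600 200 = true := by decide +kernel

theorem tab18800 : cert.tabPart 56096 18800 200 = true := by decide +kernel

theorem tab19000 : cert.tabPart 56096 19000 200 = true := by decide +kernel

theorem tab19200 : cert.tabPart 56096 19200 200 = true := by decide +kernel

theorem tab19400 : cert.tabPart 56096 19400 200 = true := by decide +kernel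

theorem tab19600 : cert.tabPart 56096 19600 200 = true := by decide +kernel

theorem tab19800 : cert.tabPart 56096 19800 200 = true := by decide +kernel

theorem tab20000 : cert.tabPart 56096 20000 200 = true := by decide +kernel

theorem tab20200 : cert.tabPart 56096 20200 200 = true := by decide +kernel

theorem tab20400 : cert.tabPart 56096 20400 200 = true := by decide +kernel

theorem tab20600 : cert.tabPart 56096 20600 200 = true := by decide +kernel

theorem tab20800 : cert.tabPart 56096 20800 200 = true := by decide +kernel

theorem tab21000 : cert.tabPart 56096 21000 200 = true := by decide +kernel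

theorem tab21200 : cert.tabPart 56096 21200 200 = true := by decide +kernel

theorem tab21400 : cert.tabPart 56096 21400 200 = true := by decide +kernel

theorem tab21600 : cert.tabPart 56096 21600 200 = true := by decide +kernel

theorem tab21800 : cert.tabPart 56096 21800 200 = true := by decide +kernel

theorem tab22000 : cert.tabPart 56096 22000 200 = true := by decide +kernel

theorem tab22200 : cert.tabPart 56096 22200 75 = true := by decide +kernel

theorem tabs0 : cert.tabPart 56096 0 2000 = true :=
  (Cert.tabPart_add (Cert.tabPart_add (Cert.tabPart_add (Cert.tabPart_add (Cert.tabPart_add (Cert.tabPart_add (Cert.tabPart_add (Cert.tabPart_add (Cert.tabPart_add tab0 tab200) tab400) tab600) tab800) tab1000) tab1200) tab1400) tab1600) tab1800)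

theorem tabs10 : cert.tabPart 56096 2000 2000 = true :=
  (Cert.tabPart_add (Cert.tabPart_add (Cert.tabPart_add (Cert.tabPart_add (Cert.tabPart_add (Cert.tabPart_add (Cert.tabPart_add (Cert.tabPart_add (Cert.tabPart_add tab2000 tab2200) tab2400) tab2600) tab2800) tab3000) tab3200) tab3400) tab3600) tab3800)

theorem tabs20 : cert.tabPart 56096 4000 2000 = true :=
  (Cert.tabPart_add (Cert.tabPart_add (Cert.tabPart_add (Cert.tabPart_add (Cert.tabPart_add (Cert.tabPart_add (Cert.tabPart_add (Cert.tabPart_add (Cert.tabPart_add tab4000 tab4200) tab4400) tab4600) tab4800) tab5000) tab5200) tab5400) tab5600) tab5800)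

theorem tabs30 : cert.tabPart 56096 6000 2000 = true :=
  (Cert.tabPart_add (Cert.tabPart_add (Cert.tabPart_add (Cert.tabPart_add (Cert.tabPart_add (Cert.tabPart_add (Cert.tabPart_add (Cert.tabPart_add (Cert.tabPart_add tab6000 tab6200) tab6400) tab6600) tab6800) tab7000) tab7200) tab7400) tab7600) tab7800)

theorem tabs40 : cert.tabPart 56096 8000 2000 = true :=
  (Cert.tabPart_add (Cert.tabPart_add (Cert.tabPart_add (Cert.tabPart_add (Cert.tabPart_add (Cert.tabPart_add (Cert.tabPart_add (Cert.tabPart_add (Cert.tabPart_add tab8000 tab8200) tab8400) tab8600) tab8800) tab9000) tab9200) tab9400) tab9600) tab9800)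

theorem tabs50 : cert.tabPart 56096 10000 2000 = true :=
  (Cert.tabPart_add (Cert.tabPart_add (Cert.tabPart_add (Cert.tabPart_add (Cert.tabPart_add (Cert.tabPart_add (Cert.tabPart_add (Cert.tabPart_add (Cert.tabPart_add tab10000 tab10200) tab10400) tab10600) tab10800) tab11000) tab11200) tab11400) tab11600) tab11800)

theorem tabs60 : cert.tabPart 56096 12000 2000 = true :=
  (Cert.tabPart_add (Cert.tabPart_add (Cert.tabPart_add (Cert.tabPart_add (Cert.tabPart_add (Cert.tabPart_add (Cert.tabPart_add (Cert.tabPart_add (Cert.tabPart_add tab12000 tab12200) tab12400) tab12600) tab12800) tab13000) tab13200) tab13400) tab13600) tab13800)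

theorem tabs70 : cert.tabPart 56096 14000 2000 = true :=
  (Cert.tabPart_add (Cert.tabPart_add (Cert.tabPart_add (Cert.tabPart_add (Cert.tabPart_add (Cert.tabPart_add (Cert.tabPart_add (Cert.tabPart_add (Cert.tabPart_add tab14000 tab14200) tab14400) tab14600) tab14800) tab15000) tab15200) tab15400) tab15600) tab15800)

theorem tabs80 : cert.tabPart 56096 16000 2000 = true :=
  (Cert.tabPart_add (Cert.tabPart_add (Cert.tabPart_add (Cert.tabPart_add (Cert.tabPart_add (Cert.tabPart_add (Cert.tabPart_add (Cert.tabPart_add (Cert.tabPart_add tab16000 tab16200) tab16400) tab16600) tab16800) tab17000) tab17200) tab17400) tab17600) tab17800)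

theorem tabs90 : cert.tabPart 56096 18000 2000 = true :=
  (Cert.tabPart_add (Cert.tabPart_add (Cert.tabPart_add (Cert.tabPart_add (Cert.tabPart_add (Cert.tabPart_add (Cert.tabPart_add (Cert.tabPart_add (Cert.tabPart_add tab18000 tab18200) tab18400) tab18600) tab18800) tab19000) tab19200) tab19400) tab19600) tab19800)

theorem tabs100 : cert.tabPart 56096 20000 2000 = true :=
  (Cert.tabPart_add (Cert.tabPart_add (Cert.tabPart_add (Cert.tabPart_add (Cert.tabPart_add (Cert.tabPart_add (Cert.tabPart_add (Cert.tabPart_add (Cert.tabPart_add tab20000 tab20200) tab20400) tab20600) tab20800) tab21000) tab21200) tab21400) tab21600) tab21800)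

theorem tabs110 : cert.tabPart 56096 22000 275 = true :=
  (Cert.tabPart_add tab22000 tab22200)

theorem rots_ok : cert.rotsOK rels spec = true := by decide +kernel

theorem tab_cat {a b a' c s : ℕ} (h : cert.tabPart 56096 a b = true) (h' : cert.tabPart 56096 a' c = true)
    (ha : a' = a + b) (hs : s = b + c) : cert.tabPart 56096 a s = true := by
  subst ha hs
  exact Cert.tabPart_add h h'

theorem tabAll0 : cert.tabPart 56096 0 4000 = true := tab_cat tabs0 tabs10 (by norm_num) (by norm_num)

theorem tabAll1 : cert.tabPart 56096 0 6000 = true := tab_cat tabAll0 tabs20 (by norm_num) (by norm_num)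

theorem tabAll2 : cert.tabPart 56096 0 8000 = true := tab_cat tabAll1 tabs30 (by norm_num) (by norm_num)

theorem tabAll3 : cert.tabPart 56096 0 10000 = true := tab_cat tabAll2 tabs40 (by norm_num) (by norm_num)

theorem tabAll4 : cert.tabPart 56096 0 12000 = true := tab_cat tabAll3 tabs50 (by norm_num) (by norm_num)

theorem tabAll5 : cert.tabPart 56096 0 14000 = true := tab_cat tabAll4 tabs60 (by norm_num) (by norm_num)

theorem tabAll6 : cert.tabPart 56096 0 16000 = true := tab_cat tabAll5 tabs70 (by norm_num) (by norm_num)

theorem tabAll7 : cert.tabPart 56096 0 18000 = true := tab_cat tabAll6 tabs80 (by norm_num) (by norm_num)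

theorem tabAll8 : cert.tabPart 56096 0 20000 = true := tab_cat tabAll7 tabs90 (by norm_num) (by norm_num)

theorem tabAll9 : cert.tabPart 56096 0 22000 = true := tab_cat tabAll8 tabs100 (by norm_num) (by norm_num)

theorem tabAll10 : cert.tabPart 56096 0 22275 = true := tab_cat tabAll9 tabs110 (by norm_num) (by norm_num)

theorem valid : cert.Valid rels :=
  steps_ok.valid (by decide) rots_ok (by decide +kernel) tabAll10

theorem fin_len : cert.fin.length = 22275 := fin_length cert

end Cfsg.Lib.CoThreeRecog.CertL
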